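import Cfsg.Agent.Lib.Helper6.ChevFast
import Cfsg.Prelude.Def_ChevE6

/-! Table checks for the additivity of root elements (helper6); kernel computations, split into
small declarations to bound the memory used by each. -/

set_option autoImplicit false

namespace Cfsg.Agent.Lib.Helper6.ChevAdd

open Cfsg.Lie Cfsg.Agent.Lib.Helper6.ChevSparse Cfsg.Agent.Lib.Helper6.ChevFast

set_option maxRecDepth 100000 in
set_option maxHeartbeats 0 in
theorem addE6_0 : addCheckL chevE6 (List.range' 0 18) := by decide +kernel

set_option maxRecDepth 100000 in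
set_option maxHeartbeats 0 in
theorem addE6_18 : addCheckL chevE6 (List.range' 18 18) := by decide +kernel

set_option maxRecDepth 100000 in
set_option maxHeartbeats 0 in
theorem addE6_36 : addCheckL chevE6 (List.range' 36 18) := by decide +kernel

set_option maxRecDepth 100000 in
set_option maxHeartbeats 0 in
theorem addE6_54 : addCheckL chevE6 (List.range' 54 18) := by decide +kernel

theorem addE6_0_72 (r : ℕ) (h1 : 0 ≤ r) (h2 : r < 72) : addCheckRF chevE6 r := by
  by_cases hc0 : r < 18
  · exact addE6_0 r (List.mem_range'_1.mpr ⟨by omega, by omega⟩)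
  by_cases hc1 : r < 36
  · exact addE6_18 r (List.mem_range'_1.mpr ⟨by omega, by omega⟩)
  by_cases hc2 : r < 54
  · exact addE6_36 r (List.mem_range'_1.mpr ⟨by omega, by omega⟩)
  exact addE6_54 r (List.mem_range'_1.mpr ⟨by omega, by omega⟩)


end Cfsg.Agent.Lib.Helper6.ChevAdd
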