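import Cfsg.Agent.Lib.Helper6.ChevFast
import Cfsg.Prelude.Def_ChevE7

/-! Table checks for the additivity of root elements (helper6); kernel computations, split into
small declarations to bound the memory used by each. -/

set_option autoImplicit false

namespace Cfsg.Agent.Lib.Helper6.ChevAdd

open Cfsg.Lie Cfsg.Agent.Lib.Helper6.ChevSparse Cfsg.Agent.Lib.Helper6.ChevFast

set_option maxRecDepth 100000 in
set_option maxHeartbeats 0 in
theorem addE7_63 : addCheckL chevE7 (List.range' 63 9) := by decide +kernel

set_option maxRecDepth 100000 in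
set_option maxHeartbeats 0 in
theorem addE7_72 : addCheckL chevE7 (List.range' 72 9) := by decide +kernel

set_option maxRecDepth 100000 in
set_option maxHeartbeats 0 in
theorem addE7_81 : addCheckL chevE7 (List.range' 81 9) := by decide +kernel

set_option maxRecDepth 100000 in
set_option maxHeartbeats 0 in
theorem addE7_90 : addCheckL chevE7 (List.range' 90 9) := by decide +kernel

set_option maxRecDepth 100000 in
set_option maxHeartbeats 0 in
theorem addE7_99 : addCheckL chevE7 (List.range' 99 9) := by decide +kernel

set_option maxRecDepth 100000 in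
set_option maxHeartbeats 0 in
theorem addE7_108 : addCheckL chevE7 (List.range' 108 9) := by decide +kernel

set_option maxRecDepth 100000 in
set_option maxHeartbeats 0 in
theorem addE7_117 : addCheckL chevE7 (List.range' 117 9) := by decide +kernel

theorem addE7_63_126 (r : ℕ) (h1 : 63 ≤ r) (h2 : r < 126) : addCheckRF chevE7 r := by
  by_cases hc0 : r < 72
  · exact addE7_63 r (List.mem_range'_1.mpr ⟨by omega, by omega⟩)
  by_cases hc1 : r < 81
  · exact addE7_72 r (List.mem_range'_1.mpr ⟨by omega, by omega⟩)
  by_cases hc2 : r < 90
  · exact addE7_81 r (List.mem_range'_1.mpr ⟨by omega, by omega⟩)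
  by_cases hc3 : r < 99
  · exact addE7_90 r (List.mem_range'_1.mpr ⟨by omega, by omega⟩)
  by_cases hc4 : r < 108
  · exact addE7_99 r (List.mem_range'_1.mpr ⟨by omega, by omega⟩)
  by_cases hc5 : r < 117
  · exact addE7_108 r (List.mem_range'_1.mpr ⟨by omega, by omega⟩)
  exact addE7_117 r (List.mem_range'_1.mpr ⟨by omega, by omega⟩)


end Cfsg.Agent.Lib.Helper6.ChevAdd
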