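import Cfsg.Agent.Lib.Helper6.ChevFast
import Cfsg.Prelude.Def_ChevE8

/-! Table checks for the additivity of root elements (helper6); kernel computations, split into
small declarations to bound the memory used by each. -/

set_option autoImplicit false

namespace Cfsg.Agent.Lib.Helper6.ChevAdd

open Cfsg.Lie Cfsg.Agent.Lib.Helper6.ChevSparse Cfsg.Agent.Lib.Helper6.ChevFast

set_option maxRecDepth 100000 in
set_option maxHeartbeats 0 in
theorem addE8_120 : addCheckL chevE8 (List.range' 120 5) := by decide +kernel

set_option maxRecDepth 100000 in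
set_option maxHeartbeats 0 in
theorem addE8_125 : addCheckL chevE8 (List.range' 125 5) := by decide +kernel

set_option maxRecDepth 100000 in
set_option maxHeartbeats 0 in
theorem addE8_130 : addCheckL chevE8 (List.range' 130 5) := by decide +kernel

set_option maxRecDepth 100000 in
set_option maxHeartbeats 0 in
theorem addE8_135 : addCheckL chevE8 (List.range' 135 5) := by decide +kernel

set_option maxRecDepth 100000 in
set_option maxHeartbeats 0 in
theorem addE8_140 : addCheckL chevE8 (List.range' 140 5) := by decide +kernel

set_option maxRecDepth 100000 in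
set_option maxHeartbeats 0 in
theorem addE8_145 : addCheckL chevE8 (List.range' 145 5) := by decide +kernel

set_option maxRecDepth 100000 in
set_option maxHeartbeats 0 in
theorem addE8_150 : addCheckL chevE8 (List.range' 150 5) := by decide +kernel

set_option maxRecDepth 100000 in
set_option maxHeartbeats 0 in
theorem addE8_155 : addCheckL chevE8 (List.range' 155 5) := by decide +kernel

theorem addE8_120_160 (r : ℕ) (h1 : 120 ≤ r) (h2 : r < 160) : addCheckRF chevE8 r := by
  by_cases hc0 : r < 125
  · exact addE8_120 r (List.mem_range'_1.mpr ⟨by omega, by omega⟩)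
  by_cases hc1 : r < 130
  · exact addE8_125 r (List.mem_range'_1.mpr ⟨by omega, by omega⟩)
  by_cases hc2 : r < 135
  · exact addE8_130 r (List.mem_range'_1.mpr ⟨by omega, by omega⟩)
  by_cases hc3 : r < 140
  · exact addE8_135 r (List.mem_range'_1.mpr ⟨by omega, by omega⟩)
  by_cases hc4 : r < 145
  · exact addE8_140 r (List.mem_range'_1.mpr ⟨by omega, by omega⟩)
  by_cases hc5 : r < 150
  · exact addE8_145 r (List.mem_range'_1.mpr ⟨by omega, by omega⟩)
  by_cases hc6 : r < 155
  · exact addE8_150 r (List.mem_range'_1.mpr ⟨by omega, by omega⟩)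
  exact addE8_155 r (List.mem_range'_1.mpr ⟨by omega, by omega⟩)


end Cfsg.Agent.Lib.Helper6.ChevAdd
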