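import Cfsg.Agent.Lib.Helper6.ChevFast
import Cfsg.Prelude.Def_ChevE8

/-! Table checks for the additivity of root elements (helper6); kernel computations, split into
small declarations to bound the memory used by each. -/

set_option autoImplicit false

namespace Cfsg.Agent.Lib.Helper6.ChevAdd

open Cfsg.Lie Cfsg.Agent.Lib.Helper6.ChevSparse Cfsg.Agent.Lib.Helper6.ChevFast

set_option maxRecDepth 100000 in
set_option maxHeartbeats 0 in
theorem addE8_160 : addCheckL chevE8 (List.range' 160 5) := by decide +kernel

set_option maxRecDepth 100000 in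
set_option maxHeartbeats 0 in
theorem addE8_165 : addCheckL chevE8 (List.range' 165 5) := by decide +kernel

set_option maxRecDepth 100000 in
set_option maxHeartbeats 0 in
theorem addE8_170 : addCheckL chevE8 (List.range' 170 5) := by decide +kernel

set_option maxRecDepth 100000 in
set_option maxHeartbeats 0 in
theorem addE8_175 : addCheckL chevE8 (List.range' 175 5) := by decide +kernel

set_option maxRecDepth 100000 in
set_option maxHeartbeats 0 in
theorem addE8_180 : addCheckL chevE8 (List.range' 180 5) := by decide +kernel

set_option maxRecDepth 100000 in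
set_option maxHeartbeats 0 in
theorem addE8_185 : addCheckL chevE8 (List.range' 185 5) := by decide +kernel

set_option maxRecDepth 100000 in
set_option maxHeartbeats 0 in
theorem addE8_190 : addCheckL chevE8 (List.range' 190 5) := by decide +kernel

set_option maxRecDepth 100000 in
set_option maxHeartbeats 0 in
theorem addE8_195 : addCheckL chevE8 (List.range' 195 5) := by decide +kernel

theorem addE8_160_200 (r : ℕ) (h1 : 160 ≤ r) (h2 : r < 200) : addCheckRF chevE8 r := by
  by_cases hc0 : r < 165
  · exact addE8_160 r (List.mem_range'_1.mpr ⟨by omega, by omega⟩)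
  by_cases hc1 : r < 170
  · exact addE8_165 r (List.mem_range'_1.mpr ⟨by omega, by omega⟩)
  by_cases hc2 : r < 175
  · exact addE8_170 r (List.mem_range'_1.mpr ⟨by omega, by omega⟩)
  by_cases hc3 : r < 180
  · exact addE8_175 r (List.mem_range'_1.mpr ⟨by omega, by omega⟩)
  by_cases hc4 : r < 185
  · exact addE8_180 r (List.mem_range'_1.mpr ⟨by omega, by omega⟩)
  by_cases hc5 : r < 190
  · exact addE8_185 r (List.mem_range'_1.mpr ⟨by omega, by omega⟩)
  by_cases hc6 : r < 195
  · exact addE8_190 r (List.mem_range'_1.mpr ⟨by omega, by omega⟩)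
  exact addE8_195 r (List.mem_range'_1.mpr ⟨by omega, by omega⟩)


end Cfsg.Agent.Lib.Helper6.ChevAdd
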