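import Cfsg.Agent.Lib.Helper6.ChevFast
import Cfsg.Prelude.Def_ChevE8

/-! Table checks for the additivity of root elements (helper6); kernel computations, split into
small declarations to bound the memory used by each. -/

set_option autoImplicit false

namespace Cfsg.Agent.Lib.Helper6.ChevAdd

open Cfsg.Lie Cfsg.Agent.Lib.Helper6.ChevSparse Cfsg.Agent.Lib.Helper6.ChevFast

set_option maxRecDepth 100000 in
set_option maxHeartbeats 0 in
theorem addE8_200 : addCheckL chevE8 (List.range' 200 5) := by decide +kernel

set_option maxRecDepth 100000 in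
set_option maxHeartbeats 0 in
theorem addE8_205 : addCheckL chevE8 (List.range' 205 5) := by decide +kernel

set_option maxRecDepth 100000 in
set_option maxHeartbeats 0 in
theorem addE8_210 : addCheckL chevE8 (List.range' 210 5) := by decide +kernel

set_option maxRecDepth 100000 in
set_option maxHeartbeats 0 in
theorem addE8_215 : addCheckL chevE8 (List.range' 215 5) := by decide +kernel

set_option maxRecDepth 100000 in
set_option maxHeartbeats 0 in
theorem addE8_220 : addCheckL chevE8 (List.range' 220 5) := by decide +kernel

set_option maxRecDepth 100000 in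
set_option maxHeartbeats 0 in
theorem addE8_225 : addCheckL chevE8 (List.range' 225 5) := by decide +kernel

set_option maxRecDepth 100000 in
set_option maxHeartbeats 0 in
theorem addE8_230 : addCheckL chevE8 (List.range' 230 5) := by decide +kernel

set_option maxRecDepth 100000 in
set_option maxHeartbeats 0 in
theorem addE8_235 : addCheckL chevE8 (List.range' 235 5) := by decide +kernel

theorem addE8_200_240 (r : ℕ) (h1 : 200 ≤ r) (h2 : r < 240) : addCheckRF chevE8 r := by
  by_cases hc0 : r < 205
  · exact addE8_200 r (List.mem_range'_1.mpr ⟨by omega, by omega⟩)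
  by_cases hc1 : r < 210
  · exact addE8_205 r (List.mem_range'_1.mpr ⟨by omega, by omega⟩)
  by_cases hc2 : r < 215
  · exact addE8_210 r (List.mem_range'_1.mpr ⟨by omega, by omega⟩)
  by_cases hc3 : r < 220
  · exact addE8_215 r (List.mem_range'_1.mpr ⟨by omega, by omega⟩)
  by_cases hc4 : r < 225
  · exact addE8_220 r (List.mem_range'_1.mpr ⟨by omega, by omega⟩)
  by_cases hc5 : r < 230
  · exact addE8_225 r (List.mem_range'_1.mpr ⟨by omega, by omega⟩)
  by_cases hc6 : r < 235
  · exact addE8_230 r (List.mem_range'_1.mpr ⟨by omega, by omega⟩)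
  exact addE8_235 r (List.mem_range'_1.mpr ⟨by omega, by omega⟩)


end Cfsg.Agent.Lib.Helper6.ChevAdd
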