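import Cfsg.Agent.Lib.Helper6.ChevFast
import Cfsg.Prelude.Def_ChevE8

/-! Table checks for the additivity of root elements (helper6); kernel computations, split into
small declarations to bound the memory used by each. -/

set_option autoImplicit false

namespace Cfsg.Agent.Lib.Helper6.ChevAdd

open Cfsg.Lie Cfsg.Agent.Lib.Helper6.ChevSparse Cfsg.Agent.Lib.Helper6.ChevFast

set_option maxRecDepth 100000 in
set_option maxHeartbeats 0 in
theorem addE8_40 : addCheckL chevE8 (List.range' 40 5) := by decide +kernel

set_option maxRecDepth 100000 in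
set_option maxHeartbeats 0 in
theorem addE8_45 : addCheckL chevE8 (List.range' 45 5) := by decide +kernel

set_option maxRecDepth 100000 in
set_option maxHeartbeats 0 in
theorem addE8_50 : addCheckL chevE8 (List.range' 50 5) := by decide +kernel

set_option maxRecDepth 100000 in
set_option maxHeartbeats 0 in
theorem addE8_55 : addCheckL chevE8 (List.range' 55 5) := by decide +kernel

set_option maxRecDepth 100000 in
set_option maxHeartbeats 0 in
theorem addE8_60 : addCheckL chevE8 (List.range' 60 5) := by decide +kernel

set_option maxRecDepth 100000 in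
set_option maxHeartbeats 0 in
theorem addE8_65 : addCheckL chevE8 (List.range' 65 5) := by decide +kernel

set_option maxRecDepth 100000 in
set_option maxHeartbeats 0 in
theorem addE8_70 : addCheckL chevE8 (List.range' 70 5) := by decide +kernel

set_option maxRecDepth 100000 in
set_option maxHeartbeats 0 in
theorem addE8_75 : addCheckL chevE8 (List.range' 75 5) := by decide +kernel

theorem addE8_40_80 (r : ℕ) (h1 : 40 ≤ r) (h2 : r < 80) : addCheckRF chevE8 r := by
  by_cases hc0 : r < 45
  · exact addE8_40 r (List.mem_range'_1.mpr ⟨by omega, by omega⟩)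
  by_cases hc1 : r < 50
  · exact addE8_45 r (List.mem_range'_1.mpr ⟨by omega, by omega⟩)
  by_cases hc2 : r < 55
  · exact addE8_50 r (List.mem_range'_1.mpr ⟨by omega, by omega⟩)
  by_cases hc3 : r < 60
  · exact addE8_55 r (List.mem_range'_1.mpr ⟨by omega, by omega⟩)
  by_cases hc4 : r < 65
  · exact addE8_60 r (List.mem_range'_1.mpr ⟨by omega, by omega⟩)
  by_cases hc5 : r < 70
  · exact addE8_65 r (List.mem_range'_1.mpr ⟨by omega, by omega⟩)
  by_cases hc6 : r < 75
  · exact addE8_70 r (List.mem_range'_1.mpr ⟨by omega, by omega⟩)
  exact addE8_75 r (List.mem_range'_1.mpr ⟨by omega, by omega⟩)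


end Cfsg.Agent.Lib.Helper6.ChevAdd
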