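import Cfsg.Agent.Lib.Helper6.ChevFast
import Cfsg.Prelude.Def_ChevG2
import Cfsg.Prelude.Def_ChevB2
import Cfsg.Prelude.Def_ChevD4
import Cfsg.Prelude.Def_ChevF4

/-! Table checks for the additivity of root elements (helper6); kernel computations, split into
small declarations to bound the memory used by each. -/

set_option autoImplicit false

namespace Cfsg.Agent.Lib.Helper6.ChevAdd

open Cfsg.Lie Cfsg.Agent.Lib.Helper6.ChevSparse Cfsg.Agent.Lib.Helper6.ChevFast

set_option maxRecDepth 100000 in
set_option maxHeartbeats 0 in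
theorem addG2_0 : addCheckL chevG2 (List.range' 0 12) := by decide +kernel

theorem addG2_0_12 (r : ℕ) (h1 : 0 ≤ r) (h2 : r < 12) : addCheckRF chevG2 r := by
  exact addG2_0 r (List.mem_range'_1.mpr ⟨by omega, by omega⟩)

set_option maxRecDepth 100000 in
set_option maxHeartbeats 0 in
theorem addB2_0 : addCheckL chevB2 (List.range' 0 8) := by decide +kernel

theorem addB2_0_8 (r : ℕ) (h1 : 0 ≤ r) (h2 : r < 8) : addCheckRF chevB2 r := by
  exact addB2_0 r (List.mem_range'_1.mpr ⟨by omega, by omega⟩)

set_option maxRecDepth 100000 in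
set_option maxHeartbeats 0 in
theorem addD4_0 : addCheckL chevD4 (List.range' 0 24) := by decide +kernel

theorem addD4_0_24 (r : ℕ) (h1 : 0 ≤ r) (h2 : r < 24) : addCheckRF chevD4 r := by
  exact addD4_0 r (List.mem_range'_1.mpr ⟨by omega, by omega⟩)

set_option maxRecDepth 100000 in
set_option maxHeartbeats 0 in
theorem addF4_0 : addCheckL chevF4 (List.range' 0 12) := by decide +kernel

set_option maxRecDepth 100000 in
set_option maxHeartbeats 0 in
theorem addF4_12 : addCheckL chevF4 (List.range' 12 12) := by decide +kernel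

set_option maxRecDepth 100000 in
set_option maxHeartbeats 0 in
theorem addF4_24 : addCheckL chevF4 (List.range' 24 12) := by decide +kernel

set_option maxRecDepth 100000 in
set_option maxHeartbeats 0 in
theorem addF4_36 : addCheckL chevF4 (List.range' 36 12) := by decide +kernel

theorem addF4_0_48 (r : ℕ) (h1 : 0 ≤ r) (h2 : r < 48) : addCheckRF chevF4 r := by
  by_cases hc0 : r < 12
  · exact addF4_0 r (List.mem_range'_1.mpr ⟨by omega, by omega⟩)
  by_cases hc1 : r < 24
  · exact addF4_12 r (List.mem_range'_1.mpr ⟨by omega, by omega⟩)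
  by_cases hc2 : r < 36
  · exact addF4_24 r (List.mem_range'_1.mpr ⟨by omega, by omega⟩)
  exact addF4_36 r (List.mem_range'_1.mpr ⟨by omega, by omega⟩)


end Cfsg.Agent.Lib.Helper6.ChevAdd
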