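import Cfsg.Agent.Lib.Helper6.ChevFast
import Cfsg.Prelude.Def_ChevE8

/-! Table checks for the additivity of root elements (helper6); kernel computations, split into
small declarations to bound the memory used by each. -/

set_option autoImplicit false

namespace Cfsg.Agent.Lib.Helper6.ChevAdd

open Cfsg.Lie Cfsg.Agent.Lib.Helper6.ChevSparse Cfsg.Agent.Lib.Helper6.ChevFast

set_option maxRecDepth 100000 in
set_option maxHeartbeats 0 in
theorem addE8_0 : addCheckL chevE8 (List.range' 0 5) := by decide +kernel

set_option maxRecDepth 100000 in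
set_option maxHeartbeats 0 in
theorem addE8_5 : addCheckL chevE8 (List.range' 5 5) := by decide +kernel

set_option maxRecDepth 100000 in
set_option maxHeartbeats 0 in
theorem addE8_10 : addCheckL chevE8 (List.range' 10 5) := by decide +kernel

set_option maxRecDepth 100000 in
set_option maxHeartbeats 0 in
theorem addE8_15 : addCheckL chevE8 (List.range' 15 5) := by decide +kernel

set_option maxRecDepth 100000 in
set_option maxHeartbeats 0 in
theorem addE8_20 : addCheckL chevE8 (List.range' 20 5) := by decide +kernel

set_option maxRecDepth 100000 in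
set_option maxHeartbeats 0 in
theorem addE8_25 : addCheckL chevE8 (List.range' 25 5) := by decide +kernel

set_option maxRecDepth 100000 in
set_option maxHeartbeats 0 in
theorem addE8_30 : addCheckL chevE8 (List.range' 30 5) := by decide +kernel

set_option maxRecDepth 100000 in
set_option maxHeartbeats 0 in
theorem addE8_35 : addCheckL chevE8 (List.range' 35 5) := by decide +kernel

theorem addE8_0_40 (r : ℕ) (h1 : 0 ≤ r) (h2 : r < 40) : addCheckRF chevE8 r := by
  by_cases hc0 : r < 5
  · exact addE8_0 r (List.mem_range'_1.mpr ⟨by omega, by omega⟩)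
  by_cases hc1 : r < 10
  · exact addE8_5 r (List.mem_range'_1.mpr ⟨by omega, by omega⟩)
  by_cases hc2 : r < 15
  · exact addE8_10 r (List.mem_range'_1.mpr ⟨by omega, by omega⟩)
  by_cases hc3 : r < 20
  · exact addE8_15 r (List.mem_range'_1.mpr ⟨by omega, by omega⟩)
  by_cases hc4 : r < 25
  · exact addE8_20 r (List.mem_range'_1.mpr ⟨by omega, by omega⟩)
  by_cases hc5 : r < 30
  · exact addE8_25 r (List.mem_range'_1.mpr ⟨by omega, by omega⟩)
  by_cases hc6 : r < 35
  · exact addE8_30 r (List.mem_range'_1.mpr ⟨by omega, by omega⟩)
  exact addE8_35 r (List.mem_range'_1.mpr ⟨by omega, by omega⟩)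


end Cfsg.Agent.Lib.Helper6.ChevAdd
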